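import Cfsg.Agent.H26.OddComplement.Local
import Mathlib.Combinatorics.Pigeonhole

/-!
Many involutions send a Sylow `2`-subgroup to the same other one.
-/

set_option autoImplicit false

namespace Cfsg.Agent.H26.OddComplement

open Subgroup
open scoped Pointwise

variable {G : Type*} [Group G] [Finite G] {M : Subgroup G}

/-- The involutions of a subgroup. -/
def invols (P : Subgroup G) : Set G := {v | v ∈ P ∧ orderOf v = 2}

theorem ncard_invols_eq (P Q : Sylow 2 G) :
    (invols (P : Subgroup G)).ncard = (invols (Q : Subgroup G)).ncard := by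
  obtain ⟨g, rfl⟩ := MulAction.exists_smul_eq G P Q
  rw [show invols ((g • P : Sylow 2 G) : Subgroup G) =
    (fun v => g * v * g⁻¹) '' invols (P : Subgroup G) from ?_]
  · exact (Set.ncard_image_of_injective _ (MulAut.conj g).injective).symm
  · ext v
    constructor
    · rintro ⟨hv, ho⟩
      obtain ⟨u, hu, rfl⟩ := Subgroup.mem_map.1 hv
      refine ⟨u, ⟨hu, ?_⟩, rfl⟩
      rw [← ho]
      exact (orderOf_injective (MulAut.conj g).toMonoidHom (MulEquiv.injective _) u).symm
    · rintro ⟨u, ⟨hu, ho⟩, rfl⟩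
      refine ⟨Subgroup.mem_map.2 ⟨u, hu, rfl⟩, ?_⟩
      rw [← ho]
      exact orderOf_injective (MulAut.conj g).toMonoidHom (MulEquiv.injective _) u

theorem Setting.ncard_all (h : Setting M) (S : Sylow 2 G) :
    ({v : G | orderOf v = 2} : Set G).ncard =
      Nat.card (Sylow 2 G) * (invols (S : Subgroup G)).ncard := by
  classical
  cases nonempty_fintype G
  cases nonempty_fintype (Sylow 2 G)
  have e : ({v : G | orderOf v = 2} : Set G) =
      ⋃ P : Sylow 2 G, invols (P : Subgroup G) := by
    ext v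
    simp only [Set.mem_setOf_eq, Set.mem_iUnion]
    exact ⟨fun hv => (exists_sylow_mem hv).imp fun P hP => ⟨hP, hv⟩, fun ⟨P, hP⟩ => hP.2⟩
  rw [e, Set.ncard_iUnion_of_finite (fun P => Set.toFinite _)]
  · rw [finsum_eq_sum_of_fintype, Finset.sum_congr rfl (fun P _ => ncard_invols_eq P S),
      Finset.sum_const, Finset.card_univ, smul_eq_mul, Nat.card_eq_fintype_card]
  · intro P Q hPQ
    rw [Function.onFun, Set.disjoint_left]
    rintro v ⟨hP, ho⟩ ⟨hQ, -⟩
    refine hPQ (h.sylow_eq hP hQ fun e => ?_)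
    rw [e, orderOf_one] at ho
    exact absurd ho (by decide)

/-- Some involution moves `S` to a point shared by `w` involutions. -/
theorem Setting.exists_fiber (h : Setting M) (S : Sylow 2 G) :
    ∃ u : G, orderOf u = 2 ∧ u • S ≠ S ∧ (invols (S : Subgroup G)).ncard ≤
      Nat.card (normalizer ((S : Subgroup G) : Set G) ⊓
        normalizer (((u • S : Sylow 2 G) : Subgroup G) : Set G) : Subgroup G) := by
  classical
  cases nonempty_fintype G
  cases nonempty_fintype (Sylow 2 G)
  set w := (invols (S : Subgroup G)).ncard with hw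
  set A : Finset G := Finset.univ.filter fun v => orderOf v = 2 ∧ v • S ≠ S with hA
  have hin : ({v : G | orderOf v = 2 ∧ v • S = S} : Set G) = invols (S : Subgroup G) := by
    ext v
    constructor
    · rintro ⟨hv, hS⟩
      refine ⟨?_, hv⟩
      have : IsPGroup 2 (zpowers v) :=
        IsPGroup.of_card (n := 1) (by rw [Nat.card_zpowers, hv, pow_one])
      exact ((this.inf_normalizer_sylow S).le
        ⟨mem_zpowers v, Sylow.smul_eq_iff_mem_normalizer.1 hS⟩).2
    · rintro ⟨hv, ho⟩
      exact ⟨ho, Sylow.smul_eq_iff_mem_normalizer.2 (le_normalizer hv)⟩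
  have hAc : A.card + w = Nat.card (Sylow 2 G) * w := by
    rw [← h.ncard_all S, hw, ← hin, Set.ncard_eq_toFinset_card', Set.ncard_eq_toFinset_card',
      ← Finset.card_union_of_disjoint (by
        rw [Finset.disjoint_left]
        intro v hv hv'
        simp [hA] at hv hv'
        exact hv.2 hv'.2)]
    congr 1
    ext v
    simp only [hA, Finset.mem_union, Finset.mem_filter, Finset.mem_univ, true_and,
      Set.mem_toFinset, Set.mem_setOf_eq]
    tauto
  obtain ⟨R, hR⟩ := h.exists_ne_sylow S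
  obtain ⟨P1, hP1, hle⟩ := Finset.exists_le_card_fiber_of_mul_le_card_of_maps_to
    (f := fun v : G => v • S) (s := A) (t := Finset.univ.erase S) (n := w)
    (fun v hv => Finset.mem_erase.2 ⟨(Finset.mem_filter.1 hv).2.2, Finset.mem_univ _⟩)
    ⟨R, Finset.mem_erase.2 ⟨hR, Finset.mem_univ _⟩⟩
    (by
      rw [Finset.card_erase_of_mem (Finset.mem_univ _), Finset.card_univ, Nat.sub_mul, one_mul,
        ← Nat.card_eq_fintype_card, ← hAc, Nat.add_sub_cancel])
  have hwpos : 0 < w := by
    obtain ⟨x, hx, hp⟩ := Coprime.exists_prime_orderOf_mem (h.sylow_ne_bot S)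
    refine (Set.ncard_pos (Set.toFinite _)).2 ⟨x, hx, ?_⟩
    obtain ⟨k, hk⟩ := IsPGroup.iff_card.1 S.isPGroup'
    exact (Nat.prime_dvd_prime_iff_eq hp Nat.prime_two).1
      (hp.dvd_of_dvd_pow (hk ▸ Subgroup.orderOf_dvd_natCard _ hx))
  obtain ⟨u, hu⟩ := Finset.card_pos.1 (lt_of_lt_of_le hwpos hle)
  obtain ⟨huA, rfl⟩ := Finset.mem_filter.1 hu
  have hu2 := (Finset.mem_filter.1 huA).2
  refine ⟨u, hu2.1, hu2.2, hle.trans ?_⟩
  have huu : u * u = 1 := by rw [← sq, ← hu2.1, pow_orderOf_eq_one]
  rw [← Nat.card_eq_finsetCard]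
  refine Nat.card_le_card_of_injective (fun v => ⟨u * v.1, ?_, ?_⟩) fun a b e => Subtype.ext ?_
  · refine Sylow.smul_eq_iff_mem_normalizer.1 ?_
    rw [mul_smul, (Finset.mem_filter.1 v.2).2, ← mul_smul, huu, one_smul]
  · refine Sylow.smul_eq_iff_mem_normalizer.1 ?_
    obtain ⟨hv, he⟩ := Finset.mem_filter.1 v.2
    have hvv : v.1 * v.1 = 1 := by
      have := pow_orderOf_eq_one v.1
      rwa [(Finset.mem_filter.1 hv).2.1, sq] at this
    refine (congrArg (fun X : Sylow 2 G => (u * v.1) • X) he.symm).trans ?_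
    show (u * v.1) • v.1 • S = u • S
    rw [← mul_smul, mul_assoc, hvv, mul_one]
  · exact mul_left_cancel (congrArg Subtype.val e)

end Cfsg.Agent.H26.OddComplement
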