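import Cfsg.Agent.H26.OddComplement.Fpf
import Cfsg.Agent.H26.OddComplement.Count
import Cfsg.Agent.Cores.Fitting
import Cfsg.Agent.S1161
import Mathlib.GroupTheory.Transfer

/-!
There is no nonabelian simple group with abelian Sylow `2`-subgroups and a `2`-complement.
-/

set_option autoImplicit false

namespace Cfsg.Agent.H26.OddComplement

open Subgroup
open scoped Pointwise

universe u

variable {G : Type u} [Group G] [Finite G] {M : Subgroup G}

/-- The elements of square one in a commutative subgroup. -/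
def omegaTwo (P : Subgroup G) (hP : ∀ x ∈ P, ∀ y ∈ P, x * y = y * x) : Subgroup G where
  carrier := {v | v ∈ P ∧ v * v = 1}
  mul_mem' := fun {a b} ha hb => ⟨P.mul_mem ha.1 hb.1, by
    rw [mul_assoc a b, ← mul_assoc b a b, hP b hb.1 a ha.1, mul_assoc a b b, hb.2, mul_one, ha.2]⟩
  one_mem' := ⟨P.one_mem, one_mul 1⟩
  inv_mem' := fun {a} ha => ⟨P.inv_mem ha.1, by rw [← mul_inv_rev, ha.2, inv_one]⟩

omit [Finite G] in
theorem mem_omegaTwo {P : Subgroup G} {hP : ∀ x ∈ P, ∀ y ∈ P, x * y = y * x} {v : G} :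
    v ∈ omegaTwo P hP ↔ v ∈ P ∧ v * v = 1 := Iff.rfl

/-- `d` commutes with no involution of `S`. -/
def IsFree (S : Subgroup G) (d : G) : Prop :=
  ∀ v ∈ S, v * v = 1 → d * v = v * d → v = 1

theorem IsFree.eq_one {S : Subgroup G} (hS : IsPGroup 2 S) {d s : G} (h : IsFree S d)
    (hs : s ∈ S) (hc : d * s = s * d) : s = 1 := by
  obtain ⟨k, hk⟩ := IsPGroup.iff_card.1 hS
  obtain ⟨i, -, hi⟩ := (Nat.dvd_prime_pow Nat.prime_two).1
    (hk ▸ Subgroup.orderOf_dvd_natCard S hs)
  cases i with
  | zero => exact orderOf_eq_one_iff.1 (hi.trans (pow_zero 2))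
  | succ j =>
    exfalso
    have h1 := h (s ^ 2 ^ j) (S.pow_mem hs _)
      (by rw [← pow_add, show 2 ^ j + 2 ^ j = 2 ^ (j + 1) by ring, ← hi, pow_orderOf_eq_one])
      ((show Commute d s from hc).pow_right _).eq
    have h2 := Nat.le_of_dvd (by positivity) (orderOf_dvd_of_pow_eq_one h1)
    rw [hi] at h2
    have : 0 < 2 ^ j := by positivity
    have : 2 ^ (j + 1) = 2 * 2 ^ j := by ring
    omega

/-- The contradiction. -/
theorem Setting.false (h : Setting M) : False := by
  classical
  haveI := h.simple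
  obtain ⟨S⟩ : Nonempty (Sylow 2 G) := inferInstance
  have hSc := h.abelian S
  set NS : Subgroup G := normalizer ((S : Subgroup G) : Set G) with hNS
  set D : Subgroup G := NS ⊓ M with hD
  have hodd : Odd (Nat.card D) := h.compl.1.of_dvd_nat (card_dvd_of_le inf_le_right)
  -- `D ≠ ⊥` by Burnside
  have hDne : D ≠ ⊥ := by
    intro hD0
    have hcard := h.compl.card_inf S (le_normalizer (H := (S : Subgroup G)))
    rw [← hNS, ← hD, hD0, card_bot, mul_one] at hcard
    have hNS' : NS = (S : Subgroup G) :=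
      (eq_of_le_of_card_ge le_normalizer hcard.ge).symm
    have hle : normalizer ((S : Subgroup G) : Set G) ≤ centralizer ((S : Subgroup G) : Set G) := by
      intro x hx
      rw [← hNS, hNS'] at hx
      exact mem_centralizer_iff.2 fun y hy => hSc y hy x hx
    have hK := MonoidHom.ker_transferSylow_isComplement' S hle
    rcases (MonoidHom.normal_ker (MonoidHom.transferSylow S hle)).eq_bot_or_eq_top with e | e
    · have := hK.sup_eq_top
      rw [e, bot_sup_eq] at this
      exact h.normalizer_ne_top S (top_le_iff.1 (this.ge.trans le_normalizer))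
    · refine h.sylow_ne_bot S (Subgroup.card_eq_one.1 ?_)
      have := hK.card_mul
      rw [e, card_top] at this
      exact Nat.eq_of_mul_eq_mul_left (Nat.card_pos (α := G)) (by rw [this, mul_one])
  -- the module
  set V := omegaTwo (S : Subgroup G) hSc with hV
  have hVn : ∀ d : G, d ∈ NS → ∀ v ∈ V, d * v * d⁻¹ ∈ V := fun d hd v hv =>
    ⟨(mem_normalizer_iff.1 hd v).1 hv.1, by
      rw [show d * v * d⁻¹ * (d * v * d⁻¹) = d * (v * v) * d⁻¹ by group, hv.2, mul_one,
        mul_inv_cancel]⟩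
  letI : CommGroup V :=
    { (inferInstance : Group V) with
      mul_comm := fun a b => Subtype.ext (hSc a a.2.1 b b.2.1) }
  letI : DistribMulAction D (Additive V) :=
    { smul := fun d e => Additive.ofMul
        ⟨(d : G) * (Additive.toMul e : V) * (d : G)⁻¹, hVn d d.2.1 _ (Additive.toMul e).2⟩
      one_smul := fun e => Additive.toMul.injective (Subtype.ext (by
        show ((1 : D) : G) * _ * ((1 : D) : G)⁻¹ = _
        simp))
      mul_smul := fun a b e => Additive.toMul.injective (Subtype.ext (by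
        show ((a * b : D) : G) * _ * ((a * b : D) : G)⁻¹ = (a : G) * ((b : G) * _ * (b : G)⁻¹) * (a : G)⁻¹
        simp [mul_assoc]))
      smul_zero := fun a => Additive.toMul.injective (Subtype.ext (by
        show (a : G) * 1 * (a : G)⁻¹ = 1
        simp))
      smul_add := fun a x y => Additive.toMul.injective (Subtype.ext (by
        show (a : G) * ((Additive.toMul x : V) * (Additive.toMul y : V) : V) * (a : G)⁻¹ =
          ((a : G) * (Additive.toMul x : V) * (a : G)⁻¹) * ((a : G) * (Additive.toMul y : V) * (a : G)⁻¹)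
        push_cast
        group)) }
  have hfix : ∀ (d : D) (e : Additive V), d • e = e ↔
      (d : G) * ((Additive.toMul e : V) : G) = ((Additive.toMul e : V) : G) * d := by
    intro d e
    constructor
    · intro he
      exact mul_inv_eq_iff_eq_mul.1 (congrArg (fun z => ((Additive.toMul z : V) : G)) he)
    · intro he
      exact Additive.toMul.injective (Subtype.ext (mul_inv_eq_iff_eq_mul.2 he))
  have hfree : ∀ d : D, (∀ e : Additive V, d • e = e → e = 0) ↔ IsFree (S : Subgroup G) (d : G) := by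
    intro d
    constructor
    · intro he v hv hvv hc
      have := he (Additive.ofMul ⟨v, hv, hvv⟩) ((hfix d _).2 hc)
      exact congrArg (fun z => ((Additive.toMul z : V) : G)) this
    · intro he e hd
      exact Additive.toMul.injective (Subtype.ext
        (he _ (Additive.toMul e).2.1 (Additive.toMul e).2.2 ((hfix d e).1 hd)))
  have hE : ∀ e : Additive V, 2 • e = 0 := fun e => by
    rw [two_nsmul]
    exact Additive.toMul.injective (Subtype.ext (Additive.toMul e).2.2)
  have hinv : ∀ v : G, v ∈ invols (S : Subgroup G) ↔ v ∈ V ∧ v ≠ 1 := by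
    intro v
    constructor
    · rintro ⟨hv, ho⟩
      refine ⟨⟨hv, by rw [← sq, ← ho, pow_orderOf_eq_one]⟩, fun e => ?_⟩
      rw [e, orderOf_one] at ho
      exact absurd ho (by decide)
    · rintro ⟨⟨hv, hvv⟩, hv1⟩
      exact ⟨hv, orderOf_eq_prime (by rw [sq, hvv]) hv1⟩
  have hVne : ∃ v ∈ V, v ≠ 1 := by
    obtain ⟨x, hx, hp⟩ := Coprime.exists_prime_orderOf_mem (h.sylow_ne_bot S)
    obtain ⟨k, hk⟩ := IsPGroup.iff_card.1 S.isPGroup'
    exact ⟨x, (hinv x).1 ⟨hx, (Nat.prime_dvd_prime_iff_eq hp Nat.prime_two).1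
      (hp.dvd_of_dvd_pow (hk ▸ Subgroup.orderOf_dvd_natCard _ hx))⟩⟩
  haveI : Nontrivial (Additive V) := by
    obtain ⟨v, hv, hv1⟩ := hVne
    exact ⟨⟨Additive.ofMul ⟨v, hv⟩, 0, fun e => hv1
      (congrArg (fun z => ((Additive.toMul z : V) : G)) e)⟩⟩
  haveI : FaithfulSMul D (Additive V) := by
    refine ⟨fun {a b} hab => ?_⟩
    have hc : ∀ e : Additive V, (b⁻¹ * a) • e = e := fun e => by
      rw [mul_smul, hab, inv_smul_smul]
    set x : G := ((b⁻¹ * a : D) : G) with hx
    have hxD : x ∈ D := (b⁻¹ * a : D).2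
    haveI : IsMulCommutative (S : Subgroup G) :=
      ⟨⟨fun p q => Subtype.ext (hSc p p.2 q q.2)⟩⟩
    have hA : zpowers x ≤ normalizer ((S : Subgroup G) : Set G) := zpowers_le.2 hxD.1
    obtain ⟨k, hk⟩ := IsPGroup.iff_card.1 S.isPGroup'
    have hcen := Coprime.le_centralizer_of_prime_order hA
      (by
        rw [hk, Nat.card_zpowers]
        exact Nat.Coprime.pow_right k (Nat.coprime_two_right.2 (odd_orderOf_of_mem h.compl.1 hxD.2)))
      (fun v hv hp y hy => by
        have h2 : orderOf v = 2 := (Nat.prime_dvd_prime_iff_eq hp Nat.prime_two).1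
          (hp.dvd_of_dvd_pow (hk ▸ Subgroup.orderOf_dvd_natCard _ hv))
        have hvV := ((hinv v).1 ⟨hv, h2⟩).1
        have hcx : Commute x v := (hfix _ (Additive.ofMul ⟨v, hvV⟩)).1 (hc _)
        obtain ⟨i, rfl⟩ := hy
        exact (hcx.zpow_left i).eq)
    have : x ∈ M ⊓ centralizer ((S : Subgroup G) : Set G) := ⟨hxD.2, hcen (mem_zpowers x)⟩
    rw [h.centralizer_sylow_le S, mem_bot] at this
    exact (inv_mul_eq_one.1 (Subtype.ext this : b⁻¹ * a = 1)).symm
  have htrans : ∀ a b : Additive V, a ≠ 0 → b ≠ 0 → ∃ d : D, d • a = b := by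
    intro a b ha hb
    have hne : ∀ e : Additive V, e ≠ 0 → ((Additive.toMul e : V) : G) ≠ 1 :=
      fun e he e1 => he (Additive.toMul.injective (Subtype.ext e1))
    have hoa := (hinv _).2 ⟨(Additive.toMul a).2, hne a ha⟩
    have hob := (hinv _).2 ⟨(Additive.toMul b).2, hne b hb⟩
    obtain ⟨g, hg⟩ := isConj_iff.1 (h.isConj hoa.2 hob.2)
    have hgS : g ∈ NS := Sylow.smul_eq_iff_mem_normalizer.1 (h.sylow_eq (v := ((Additive.toMul b : V) : G))
      (Subgroup.mem_map.2 ⟨_, hoa.1, hg⟩) hob.1 (hne b hb))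
    obtain ⟨m, hm, s, hs, rfl⟩ := h.compl.exists_mul' S g
    have hmN : m ∈ NS := (NS.mul_mem_cancel_right (le_normalizer hs)).1 hgS
    refine ⟨⟨m, hmN, hm⟩, Additive.toMul.injective (Subtype.ext ?_)⟩
    show m * ((Additive.toMul a : V) : G) * m⁻¹ = _
    rw [← hg, mul_inv_rev]
    calc m * ((Additive.toMul a : V) : G) * m⁻¹
        = m * (s * ((Additive.toMul a : V) : G) * s⁻¹) * m⁻¹ := by
          rw [hSc s hs _ hoa.1, mul_inv_cancel_right]
      _ = _ := by group
  obtain ⟨hcyc, hffix, -⟩ := S1161.result hodd Nat.prime_two hE htrans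
  haveI : Group.IsSolvable D := S0205.result hodd
  set F := Cfsg.fittingSubgroup D with hF
  haveI : F.Normal := Cores.fittingSubgroup_normal
  haveI := hcyc
  have hFC : centralizer (F : Set D) ≤ F := Cores.centralizer_fittingSubgroup_le
  -- free elements of prime order lie in `F`
  have hmemF : ∀ d : D, (orderOf d).Prime → IsFree (S : Subgroup G) (d : G) → d ∈ F :=
    fun d hd hfr => mem_of_fpf hodd hE hFC hffix hd ((hfree d).2 hfr)
  -- the normalizer of a free subgroup of prime order lies in `M`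
  have hkey : ∀ d : D, (orderOf d).Prime → IsFree (S : Subgroup G) (d : G) →
      ∀ g : G, g * (d : G) * g⁻¹ ∈ zpowers (d : G) → g ∈ M := by
    intro d hd hfr g hg
    set x : G := (d : G) with hx
    have hox : orderOf x = orderOf d := Subgroup.orderOf_coe d
    obtain ⟨m, hm, s, hs, rfl⟩ := h.compl.exists_mul' S g
    have hyN : s * x * s⁻¹ ∈ NS := NS.mul_mem (NS.mul_mem (le_normalizer hs) d.2.1)
      (NS.inv_mem (le_normalizer hs))
    have hyM : s * x * s⁻¹ ∈ M := by
      have h1 : m * s * x * (m * s)⁻¹ ∈ M := (zpowers_le.2 d.2.2) hg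
      rw [show s * x * s⁻¹ = m⁻¹ * (m * s * x * (m * s)⁻¹) * m by group]
      exact M.mul_mem (M.mul_mem (M.inv_mem hm) h1) hm
    -- a commutator in `S ∩ M`
    have hcs : s * x * s⁻¹ * x⁻¹ = 1 := by
      refine eq_one_of_mem_two_of_mem_odd S.isPGroup' h.compl.1 ?_ (M.mul_mem hyM (M.inv_mem d.2.2))
      rw [show s * x * s⁻¹ * x⁻¹ = s * (x * s⁻¹ * x⁻¹) by group]
      exact (S : Subgroup G).mul_mem hs ((mem_normalizer_iff.1 d.2.1 _).1 (inv_mem hs))
    have : s = 1 := hfr.eq_one S.isPGroup' hs (by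
      rw [mul_inv_eq_one, mul_inv_eq_iff_eq_mul] at hcs
      exact hcs.symm)
    rw [this, mul_one]
    exact hm
  obtain ⟨u, hu, huS, hcard⟩ := h.exists_fiber S
  set Q : Sylow 2 G := u • S with hQ
  set D' : Subgroup G := NS ⊓ normalizer ((Q : Subgroup G) : Set G) with hD'
  have huu : u * u = 1 := by rw [← sq, ← hu, pow_orderOf_eq_one]
  have huinv : u⁻¹ = u := inv_eq_of_mul_eq_one_right huu
  have hD'u : ∀ x ∈ D', u * x * u⁻¹ ∈ D' := by
    intro x hx
    have h1 : x • S = S := Sylow.smul_eq_iff_mem_normalizer.2 hx.1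
    have h2 : x • Q = Q := Sylow.smul_eq_iff_mem_normalizer.2 hx.2
    have hUQ : u • Q = S := by rw [hQ, ← mul_smul, huu, one_smul]
    refine ⟨Sylow.smul_eq_iff_mem_normalizer.1 ?_, Sylow.smul_eq_iff_mem_normalizer.1 ?_⟩
    · rw [mul_smul, mul_smul, huinv, ← hQ, h2, hUQ]
    · rw [mul_smul, mul_smul, huinv, hUQ, h1]
  have hD'S : ∀ x ∈ D', x ∈ (S : Subgroup G) → x = 1 := by
    intro x hx hxS
    by_contra h1
    refine huS (h.sylow_eq (v := x) ?_ hxS h1)
    exact (((isPGroup_zpowers_of_mem S hxS).inf_normalizer_sylow Q).le ⟨mem_zpowers x, hx.2⟩).2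
  -- move `D'` into `M`
  set H : Subgroup G := (S : Subgroup G) ⊔ D' with hH
  have hD'n : D' ≤ NS := inf_le_left
  have hbot : D' ⊓ (S : Subgroup G) = ⊥ :=
    (eq_bot_iff_forall _).2 fun x hx => hD'S x hx.1 hx.2
  have hHcard : Nat.card H = Nat.card (S : Subgroup G) * Nat.card D' :=
    Coprime.card_sup hD'n (by rw [inf_comm]; exact hbot)
  have hHM : Nat.card (H ⊓ M : Subgroup G) = Nat.card D' := by
    have := h.compl.card_inf S (le_sup_left : (S : Subgroup G) ≤ H)
    rw [hHcard] at this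
    exact Nat.eq_of_mul_eq_mul_left Nat.card_pos this
  haveI : IsMulCommutative (S : Subgroup G) :=
    ⟨⟨fun p q => Subtype.ext (hSc p p.2 q q.2)⟩⟩
  obtain ⟨n, hn, hne⟩ := Coprime.exists_conj_of_le_sup_comm (N := (S : Subgroup G)) (H₁ := D')
    (H₂ := H ⊓ M) hD'n inf_le_left hHM (by
      rw [← hHM]
      obtain ⟨k, hk⟩ := IsPGroup.iff_card.1 S.isPGroup'
      rw [hk]
      exact Nat.Coprime.pow_right k
        (Nat.coprime_two_right.2 (h.compl.1.of_dvd_nat (card_dvd_of_le inf_le_right))))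
  have hnd : ∀ x ∈ D', n * x * n⁻¹ ∈ D := fun x hx => by
    have h1 : n * x * n⁻¹ ∈ H ⊓ M := hne ▸ Subgroup.mem_map.2 ⟨x, hx, rfl⟩
    refine ⟨NS.mul_mem (NS.mul_mem (le_normalizer hn) (hD'n hx)) (NS.inv_mem (le_normalizer hn)), h1.2⟩
  let ψ : D' →* D :=
    { toFun := fun x => ⟨n * (x : G) * n⁻¹, hnd x x.2⟩
      map_one' := Subtype.ext (by simp)
      map_mul' := fun a b => Subtype.ext (by simp [mul_assoc]) }
  have hψinj : Function.Injective ψ := fun a b e => by
    have := congrArg Subtype.val e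
    exact Subtype.ext (mul_left_cancel (mul_right_cancel this))
  -- `ψ D'` meets `F` trivially
  have hmeet : ∀ x : D', ψ x ∈ F → x = 1 := by
    by_contra! hcon
    obtain ⟨x0, hx0, hx01⟩ := hcon
    obtain ⟨y, hy, hyp⟩ := Coprime.exists_prime_orderOf_mem
      (W := F.comap ψ) (fun e => hx01 (mem_bot.1 (e ▸ (mem_comap.2 hx0))))
    set d := ψ y with hd
    have hod : orderOf d = orderOf y := orderOf_injective ψ hψinj y
    have hdp : (orderOf d).Prime := hod ▸ hyp
    have hd1 : d ≠ 1 := fun e => Nat.not_prime_one (orderOf_eq_one_iff.2 e ▸ hdp)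
    have hdfr : IsFree (S : Subgroup G) (d : G) := (hfree d).1 (hffix d hy hd1)
    -- the conjugate of `y`
    let y' : D' := ⟨u * (y : G) * u⁻¹, hD'u y y.2⟩
    set d' := ψ y' with hd'
    have hoy' : orderOf y' = orderOf y := by
      rw [← Subgroup.orderOf_coe y', ← Subgroup.orderOf_coe y]
      exact orderOf_injective (MulAut.conj u).toMonoidHom (MulEquiv.injective _) _
    set t : G := n * u * n⁻¹ with ht
    have hd't : (d' : G) = t * (d : G) * t⁻¹ := by
      show n * (u * (y : G) * u⁻¹) * n⁻¹ = t * (n * (y : G) * n⁻¹) * t⁻¹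
      rw [ht]
      group
    have hto : orderOf t = 2 := by
      rw [← hu]
      exact orderOf_injective (MulAut.conj n).toMonoidHom (MulEquiv.injective _) u
    have hd'fr : IsFree (S : Subgroup G) (d' : G) := by
      intro v hv hvv hc
      by_contra hv1
      have ho : orderOf (t⁻¹ * v * t) = 2 := by
        rw [← orderOf_eq_prime (show v ^ 2 = 1 by rw [sq, hvv]) hv1]
        simpa using orderOf_injective (MulAut.conj t⁻¹).toMonoidHom (MulEquiv.injective _) v
      refine not_involution_mem h.compl.1 ho (hkey d hdp hdfr _ ?_)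
      rw [hd't] at hc
      have : t⁻¹ * v * t * (d : G) * (t⁻¹ * v * t)⁻¹ = (d : G) := by
        rw [mul_inv_eq_iff_eq_mul]
        calc t⁻¹ * v * t * (d : G) = t⁻¹ * (v * (t * (d : G) * t⁻¹)) * t := by group
          _ = t⁻¹ * (t * (d : G) * t⁻¹ * v) * t := by rw [hc]
          _ = (d : G) * (t⁻¹ * v * t) := by group
      rw [this]
      exact mem_zpowers _
    have hd'F : d' ∈ F := hmemF d' (by
      rw [orderOf_injective ψ hψinj y', hoy']; exact hyp) hd'fr
    have hz := zpowers_eq_of_cyclic (F := F) hy hd'F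
      (by rw [hod, orderOf_injective ψ hψinj y', hoy'])
    refine not_involution_mem h.compl.1 hto (hkey d hdp hdfr t ?_)
    rw [← hd't]
    obtain ⟨i, hi⟩ : d' ∈ zpowers d := hz ▸ mem_zpowers d'
    exact ⟨i, by rw [← hi]; simp⟩
  -- count
  have hle : Nat.card D' ≤ Nat.card (D ⧸ F) := by
    refine Nat.card_le_card_of_injective (fun x => (QuotientGroup.mk' F) (ψ x)) fun a b e => ?_
    have h1 : (QuotientGroup.mk' F) (ψ (a⁻¹ * b)) = 1 := by
      rw [map_mul, map_inv, map_mul, map_inv]
      simp only at e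
      rw [e, inv_mul_cancel]
    exact inv_mul_eq_one.1 (hmeet _ ((QuotientGroup.eq_one_iff _).1 h1))
  have hFne : F ≠ ⊥ := by
    intro e
    apply hDne
    have hbot' : ∀ x : D, x = 1 := fun x => mem_bot.1 (e ▸ hFC (mem_centralizer_iff.2 fun y hy => by
      rw [e] at hy
      rw [mem_bot.1 hy, one_mul, mul_one]))
    exact (eq_bot_iff_forall _).2 fun x hx => congrArg Subtype.val (hbot' ⟨x, hx⟩)
  have hquot : Nat.card (D ⧸ F) < Nat.card F := by
    have hker : (MulAut.conjNormal (H := F)).ker ≤ F := by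
      refine le_trans (fun g hg => ?_) hFC
      rw [mem_centralizer_iff]
      intro x hx
      have := congrArg (fun φ : MulAut F => ((φ ⟨x, hx⟩ : F) : D)) (MonoidHom.mem_ker.mp hg)
      simp only [MulAut.conjNormal_apply, MulAut.one_apply] at this
      exact (mul_inv_eq_iff_eq_mul.mp this).symm
    have h1 : F.index ∣ (MulAut.conjNormal (H := F)).ker.index := index_dvd_of_le hker
    have h2 : F.index ≤ Nat.card (MulAut F) :=
      (Nat.le_of_dvd (Nat.pos_of_ne_zero index_ne_zero_of_finite) h1).trans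
        (by rw [index_ker]; exact Nat.card_le_card_of_injective _ Subtype.coe_injective)
    rw [IsCyclic.card_mulAut] at h2
    exact lt_of_le_of_lt h2 (Nat.totient_lt _ (F.one_lt_card_iff_ne_bot.2 hFne))
  have hlast : Nat.card F ≤ (invols (S : Subgroup G)).ncard := by
    obtain ⟨v, hv, hv1⟩ := hVne
    set a : Additive V := Additive.ofMul ⟨v, hv⟩
    have ha : a ≠ 0 := fun e => hv1 (congrArg (fun z => ((Additive.toMul z : V) : G)) e)
    have : Nat.card F ≤ Nat.card {z : Additive V // z ≠ 0} := by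
      refine Nat.card_le_card_of_injective
        (fun g : F => ⟨(g : D) • a, fun e => ha ((smul_eq_zero_iff_eq (g : D)).1 e)⟩)
        fun g g' e => ?_
      by_contra hne'
      refine ha (hffix ((g' : D)⁻¹ * g) (F.mul_mem (F.inv_mem g'.2) g.2)
        (fun e1 => hne' (Subtype.ext (inv_mul_eq_one.1 e1).symm)) a ?_)
      have e2 : (g : D) • a = (g' : D) • a := congrArg Subtype.val e
      rw [mul_smul, e2, inv_smul_smul]
    have he : Nat.card {z : Additive V // z ≠ 0} = (invols (S : Subgroup G)).ncard := by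
      rw [← Nat.card_coe_set_eq]
      refine Nat.card_congr
        { toFun := fun z => ⟨((Additive.toMul z.1 : V) : G), (hinv _).2 ⟨(Additive.toMul z.1).2,
            fun e1 => z.2 (Additive.toMul.injective (Subtype.ext e1))⟩⟩
          invFun := fun z => ⟨Additive.ofMul ⟨z.1, ((hinv _).1 z.2).1⟩,
            fun e => ((hinv _).1 z.2).2 (congrArg (fun q => ((Additive.toMul q : V) : G)) e)⟩
          left_inv := fun z => rfl
          right_inv := fun z => rfl }
    exact this.trans he.le
  exact absurd hlast (not_le.2 (lt_of_le_of_lt (hcard.trans hle) hquot))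

end Cfsg.Agent.H26.OddComplement
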