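import Mathlib.GroupTheory.SpecificGroups.Cyclic
import Mathlib.GroupTheory.QuotientGroup.Basic
import Mathlib.GroupTheory.OrderOfElement
import Mathlib.Algebra.BigOperators.GroupWithZero.Action
import Mathlib.Algebra.Module.NatInt
import Mathlib.Algebra.Group.Action.Pointwise.Finset

/-!
Fixed-point-free elements of prime order in a group acting on a group of exponent two lie in every
self-centralising fixed-point-free cyclic normal subgroup.
-/

set_option autoImplicit false

namespace Cfsg.Agent.H26.OddComplement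

open Subgroup

variable {D : Type*} [Group D]

theorem normal_of_le_cyclic {F : Subgroup D} [F.Normal] [IsCyclic F] {H : Subgroup D}
    (h : H ≤ F) : H.Normal := by
  refine ⟨fun x hx g => ?_⟩
  obtain ⟨⟨a, ha⟩, hgen⟩ := IsCyclic.exists_generator (α := F)
  obtain ⟨i, hi⟩ := hgen ⟨x, h hx⟩
  obtain ⟨j, hj⟩ := hgen ⟨g * a * g⁻¹, (inferInstance : F.Normal).conj_mem a ha g⟩
  have hi' : a ^ i = x := by simpa using congrArg Subtype.val hi
  have hj' : a ^ j = g * a * g⁻¹ := by simpa using congrArg Subtype.val hj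
  have : g * x * g⁻¹ = x ^ j := by
    rw [← hi', ← conj_zpow, ← hj', ← zpow_mul, ← zpow_mul, mul_comm]
  rw [this]
  exact H.zpow_mem hx j

theorem zpowers_eq_of_cyclic [Finite D] {F : Subgroup D} [IsCyclic F] {x y : D} (hx : x ∈ F)
    (hy : y ∈ F) (h : orderOf x = orderOf y) : zpowers y = zpowers x := by
  classical
  cases nonempty_fintype F
  have hle : (Finset.univ.filter fun z : F => z ^ orderOf x = 1).card ≤ orderOf x :=
    IsCyclic.card_pow_eq_one_le (orderOf_pos x)
  have hsub : ∀ w : D, ∀ hw : w ∈ F, orderOf w = orderOf x →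
      ((Finset.range (orderOf x)).image fun i => (⟨w, hw⟩ : F) ^ i) =
        Finset.univ.filter fun z : F => z ^ orderOf x = 1 := by
    intro w hw he
    refine Finset.eq_of_subset_of_card_le ?_ (hle.trans (le_of_eq ?_))
    · intro z hz
      obtain ⟨i, -, rfl⟩ := Finset.mem_image.1 hz
      refine Finset.mem_filter.2 ⟨Finset.mem_univ _, ?_⟩
      rw [← pow_mul, mul_comm, pow_mul, ← he,
        show orderOf w = orderOf (⟨w, hw⟩ : F) from Subgroup.orderOf_coe (⟨w, hw⟩ : F),
        pow_orderOf_eq_one, one_pow]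
    · rw [Finset.card_image_of_injOn, Finset.card_range]
      have he' : orderOf (⟨w, hw⟩ : F) = orderOf x := by rw [← Subgroup.orderOf_coe, ← he]
      rw [Finset.coe_range, ← he']
      exact pow_injOn_Iio_orderOf
  have hmem : (⟨y, hy⟩ : F) ∈ (Finset.range (orderOf x)).image fun i => (⟨x, hx⟩ : F) ^ i := by
    rw [hsub x hx rfl]
    refine Finset.mem_filter.2 ⟨Finset.mem_univ _, Subtype.ext ?_⟩
    simp [h]
  obtain ⟨i, -, hi⟩ := Finset.mem_image.1 hmem
  have hi' : x ^ i = y := by simpa using congrArg Subtype.val hi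
  refine eq_of_le_of_card_ge (zpowers_le.2 (hi' ▸ npow_mem_zpowers x i)) ?_
  rw [Nat.card_zpowers, Nat.card_zpowers, h]

variable {E : Type*} [AddCommGroup E] [DistribMulAction D E]

theorem smul_sum_pow {y : D} {r : ℕ} (hy : y ^ r = 1) (v : E) :
    y • (∑ i ∈ Finset.range r, y ^ i • v) = ∑ i ∈ Finset.range r, y ^ i • v := by
  have h := Finset.sum_range_succ' (fun i => y ^ i • v) r
  rw [Finset.sum_range_succ, hy, one_smul, pow_zero, one_smul] at h
  rw [Finset.smul_sum]
  simp_rw [← mul_smul, ← pow_succ']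
  exact (add_right_cancel h).symm

theorem mem_of_fpf [Finite D] [Nontrivial E] (hodd : Odd (Nat.card D)) (hE : ∀ e : E, 2 • e = 0)
    {F : Subgroup D} [F.Normal] [IsCyclic F] (hC : centralizer (F : Set D) ≤ F)
    (hF : ∀ g ∈ F, g ≠ 1 → ∀ a : E, g • a = a → a = 0) {d : D} (hd : (orderOf d).Prime)
    (hdf : ∀ a : E, d • a = a → a = 0) : d ∈ F := by
  classical
  by_contra hdF
  obtain ⟨f, hfF, hfd⟩ : ∃ f ∈ F, f * d ≠ d * f := by
    by_contra! h
    exact hdF (hC (mem_centralizer_iff.2 h))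
  set c := f * d * f⁻¹ * d⁻¹ with hc
  have hdf' : d * f⁻¹ * d⁻¹ ∈ F := (inferInstance : F.Normal).conj_mem _ (F.inv_mem hfF) d
  have hcF : c ∈ F := by
    have := F.mul_mem hfF hdf'
    rwa [show f * (d * f⁻¹ * d⁻¹) = c by rw [hc]; group] at this
  have hc1 : c ≠ 1 := fun h => hfd (by
    rw [hc, mul_inv_eq_one, mul_inv_eq_iff_eq_mul] at h; exact h)
  set C : Subgroup D := zpowers c with hCdef
  have hCF : C ≤ F := zpowers_le.2 hcF
  haveI : C.Normal := normal_of_le_cyclic hCF
  set r := orderOf d with hr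
  have hcomm : Commute f (d * f⁻¹ * d⁻¹) :=
    congrArg Subtype.val (IsCyclic.commGroup.mul_comm (⟨f, hfF⟩ : F) ⟨_, hdf'⟩)
  have hconj : ∀ z ∈ C, ∃ g : D, g * d * g⁻¹ = z * d := by
    rintro z ⟨i, rfl⟩
    refine ⟨f ^ i, ?_⟩
    show f ^ i * d * (f ^ i)⁻¹ = c ^ i * d
    rw [show c = f * (d * f⁻¹ * d⁻¹) by rw [hc]; group, hcomm.mul_zpow, conj_zpow, inv_zpow]
    group
  have horder : ∀ z ∈ C, (z * d) ^ r = 1 ∧ ∀ a : E, (z * d) • a = a → a = 0 := by
    intro z hz
    obtain ⟨g, hg⟩ := hconj z hz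
    refine ⟨by rw [← hg, conj_pow, hr, pow_orderOf_eq_one, mul_one, mul_inv_cancel], fun a ha => ?_⟩
    rw [← hg, mul_smul, mul_smul, ← eq_inv_smul_iff] at ha
    exact (smul_eq_zero_iff_eq g⁻¹).1 (hdf _ ha)
  obtain ⟨v, hv⟩ := exists_ne (0 : E)
  apply hv
  cases nonempty_fintype C
  have hsumC : ∀ w : E, ∑ z : C, (z : D) • w = 0 := fun w => hF c hcF hc1 _ (by
    rw [Finset.smul_sum]
    refine Fintype.sum_equiv (Equiv.mulLeft (⟨c, mem_zpowers c⟩ : C)) _ _ fun z => ?_
    rw [Equiv.coe_mulLeft, ← mul_smul]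
    rfl)
  have hrow : ∀ z : C, ∑ i ∈ Finset.range r, ((z : D) * d) ^ i • v = 0 := fun z =>
    (horder z z.2).2 _ (smul_sum_pow (horder z z.2).1 v)
  have hmem : ∀ (i : ℕ) (z : C), ((z : D) * d) ^ i * (d ^ i)⁻¹ ∈ C := fun i z => by
    rw [← QuotientGroup.eq_one_iff]
    simp [(QuotientGroup.eq_one_iff (z : D)).2 z.2]
  have hcol : ∀ i ∈ Finset.range r, i ≠ 0 → ∑ z : C, ((z : D) * d) ^ i • v = 0 := by
    intro i hi hi0
    let φ : C → C := fun z => ⟨((z : D) * d) ^ i * (d ^ i)⁻¹, hmem i z⟩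
    have hφ : Function.Injective φ := by
      intro a b hab
      have h1 : ((a : D) * d) ^ i = ((b : D) * d) ^ i :=
        mul_right_cancel (congrArg Subtype.val hab)
      obtain ⟨j, hj⟩ : ∃ j, i * j ≡ 1 [MOD r] := by
        obtain ⟨j, -, hj⟩ := Nat.exists_mul_mod_eq_one_of_coprime (n := i) (k := r)
          ((hd.coprime_iff_not_dvd.2
            (Nat.not_dvd_of_pos_of_lt (Nat.pos_of_ne_zero hi0) (Finset.mem_range.1 hi))).symm)
          hd.one_lt
        exact ⟨j, by rw [Nat.ModEq, hj, Nat.mod_eq_of_lt hd.one_lt]⟩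
      have h2 := congrArg (· ^ j) h1
      simp only [← pow_mul] at h2
      rw [pow_eq_pow_mod _ (horder a a.2).1, pow_eq_pow_mod _ (horder b b.2).1, hj,
        Nat.mod_eq_of_lt hd.one_lt, pow_one, pow_one] at h2
      exact Subtype.ext (mul_right_cancel h2)
    rw [← hsumC (d ^ i • v)]
    refine Fintype.sum_bijective φ (Finite.injective_iff_bijective.1 hφ) _ _ fun z => ?_
    rw [← mul_smul]
    show _ = (((z : D) * d) ^ i * (d ^ i)⁻¹ * d ^ i) • v
    rw [inv_mul_cancel_right]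
  have htot : ∑ i ∈ Finset.range r, ∑ z : C, ((z : D) * d) ^ i • v = 0 := by
    rw [Finset.sum_comm]
    exact Finset.sum_eq_zero fun z _ => hrow z
  rw [Finset.sum_eq_single_of_mem 0 (Finset.mem_range.2 hd.pos) (fun i hi h => hcol i hi h)] at htot
  simp only [pow_zero, one_smul, Finset.sum_const, Finset.card_univ] at htot
  obtain ⟨k, hk⟩ : Odd (Fintype.card C) := by
    rw [← Nat.card_eq_fintype_card]
    exact hodd.of_dvd_nat C.card_subgroup_dvd_card
  rwa [hk, add_smul, one_smul, mul_smul, hE, zero_add] at htot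

end Cfsg.Agent.H26.OddComplement
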