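import Cfsg.Agent.Cores.PSolvable
import Cfsg.Agent.Cores.Constrained
import Cfsg.Agent.Coprime.SchurZassenhaus
import Cfsg.Agent.Coprime.Abelian
import Cfsg.Agent.H36.Basic
import Cfsg.Agent.S0208
import Cfsg.Agent.S0205

/-!
A simple group with abelian Sylow `2`-subgroups and a `2`-complement: local structure.
-/

set_option autoImplicit false

namespace Cfsg.Agent.H26.OddComplement

open Subgroup

variable {G : Type*} [Group G] [Finite G]

/-- `M` has odd order and `2`-power index. -/
def IsTwoComplement (M : Subgroup G) : Prop := Odd (Nat.card M) ∧ ∃ k : ℕ, M.index = 2 ^ k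

/-- Every Sylow `2`-subgroup is commutative. -/
def AbelianTwo (G : Type*) [Group G] : Prop :=
  ∀ P : Sylow 2 G, ∀ x ∈ (P : Subgroup G), ∀ y ∈ (P : Subgroup G), x * y = y * x

theorem odd_orderOf_of_mem {M : Subgroup G} (hM : Odd (Nat.card M)) {x : G} (hx : x ∈ M) :
    Odd (orderOf x) :=
  hM.of_dvd_nat (Subgroup.orderOf_dvd_natCard M hx)

theorem not_involution_mem {M : Subgroup G} (hM : Odd (Nat.card M)) {x : G}
    (hx : orderOf x = 2) : x ∉ M := fun h => by
  have := odd_orderOf_of_mem hM h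
  rw [hx] at this
  exact absurd this (by decide)

theorem eq_one_of_mem_two_of_mem_odd {S M : Subgroup G} (hS : IsPGroup 2 S) (hM : Odd (Nat.card M))
    {x : G} (hxS : x ∈ S) (hxM : x ∈ M) : x = 1 := by
  obtain ⟨k, hk⟩ := IsPGroup.iff_card.1 hS
  have h1 : orderOf x ∣ 2 ^ k := hk ▸ Subgroup.orderOf_dvd_natCard S hxS
  have hcop : Nat.Coprime (2 ^ k) (Nat.card M) :=
    Nat.Coprime.pow_left k (Nat.coprime_two_left.2 hM)
  exact orderOf_eq_one_iff.1
    (Nat.eq_one_of_dvd_coprimes hcop h1 (Subgroup.orderOf_dvd_natCard M hxM))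

theorem IsTwoComplement.isComplement {M : Subgroup G} (h : IsTwoComplement M) (P : Sylow 2 G) :
    IsComplement' (P : Subgroup G) M := by
  obtain ⟨hodd, k, hk⟩ := h
  have hcard := M.card_mul_index
  rw [hk] at hcard
  have hP : Nat.card (P : Subgroup G) = 2 ^ k := by
    rw [P.card_eq_multiplicity, ← hcard, Nat.factorization_mul Nat.card_pos.ne' (by positivity),
      Finsupp.add_apply, Nat.factorization_eq_zero_of_not_dvd hodd.not_two_dvd_nat,
      Nat.prime_two.factorization_pow, Finsupp.single_eq_same, zero_add]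
  refine isComplement'_of_coprime ?_ ?_
  · rw [hP, mul_comm, hcard]
  · rw [hP]
    exact Nat.Coprime.pow_left k (Nat.coprime_two_left.2 hodd)

theorem IsTwoComplement.exists_mul {M : Subgroup G} (h : IsTwoComplement M) (P : Sylow 2 G)
    (g : G) : ∃ s ∈ (P : Subgroup G), ∃ m ∈ M, g = s * m := by
  obtain ⟨⟨⟨s, hs⟩, ⟨m, hm⟩⟩, e⟩ := ((h.isComplement P).existsUnique g).exists
  exact ⟨s, hs, m, hm, e.symm⟩

theorem IsTwoComplement.exists_mul' {M : Subgroup G} (h : IsTwoComplement M) (P : Sylow 2 G)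
    (g : G) : ∃ m ∈ M, ∃ s ∈ (P : Subgroup G), g = m * s := by
  obtain ⟨s, hs, m, hm, e⟩ := h.exists_mul P g⁻¹
  exact ⟨m⁻¹, M.inv_mem hm, s⁻¹, inv_mem hs, by rw [← mul_inv_rev, ← e, inv_inv]⟩

/-- The trace of a `2`-complement on an overgroup of a Sylow `2`-subgroup. -/
theorem IsTwoComplement.card_inf {M : Subgroup G} (h : IsTwoComplement M) (P : Sylow 2 G)
    {H : Subgroup G} (hH : (P : Subgroup G) ≤ H) :
    Nat.card (P : Subgroup G) * Nat.card (H ⊓ M : Subgroup G) = Nat.card H := by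
  rw [← Nat.card_prod]
  refine Nat.card_congr (Equiv.ofBijective
    (fun z => (⟨(z.1 : G) * z.2, H.mul_mem (hH z.1.2) (z.2.2).1⟩ : H)) ⟨?_, ?_⟩)
  · rintro ⟨⟨a, ha⟩, ⟨b, hb⟩⟩ ⟨⟨a', ha'⟩, ⟨b', hb'⟩⟩ e
    have := (h.isComplement P).existsUnique (a * b)
    have e2 := this.unique (y₁ := (⟨a, ha⟩, ⟨b, hb.2⟩)) (y₂ := (⟨a', ha'⟩, ⟨b', hb'.2⟩)) rfl
      (congrArg Subtype.val e).symm
    simp only [Prod.mk.injEq, Subtype.mk.injEq] at e2
    obtain ⟨rfl, rfl⟩ := e2
    rfl
  · rintro ⟨g, hg⟩
    obtain ⟨s, hs, m, hm, rfl⟩ := h.exists_mul P g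
    exact ⟨(⟨s, hs⟩, ⟨m, (H.mul_mem_cancel_left (hH hs)).1 hg, hm⟩), rfl⟩

theorem IsTwoComplement.map {H : Type*} [Group H] [Finite H] {M : Subgroup G}
    (h : IsTwoComplement M) (f : G →* H) (hf : Function.Surjective f) :
    IsTwoComplement (M.map f) := by
  obtain ⟨hodd, k, hk⟩ := h
  refine ⟨hodd.of_dvd_nat (M.card_map_dvd f), ?_⟩
  obtain ⟨i, -, hi⟩ := (Nat.dvd_prime_pow Nat.prime_two).1 (hk ▸ M.index_map_dvd hf)
  exact ⟨i, hi⟩

theorem AbelianTwo.map {H : Type*} [Group H] [Finite H] (h : AbelianTwo G) (f : G →* H)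
    (hf : Function.Surjective f) : AbelianTwo H := by
  intro Q x hx y hy
  obtain ⟨P, rfl⟩ := Sylow.mapSurjective_surjective hf 2 Q
  obtain ⟨a, ha, rfl⟩ := hx
  obtain ⟨b, hb, rfl⟩ := hy
  rw [← map_mul, h P a ha b hb, map_mul]

omit [Finite G] in
theorem AbelianTwo.subgroup [Finite G] (h : AbelianTwo G) (H : Subgroup G) : AbelianTwo H := by
  intro Q x hx y hy
  obtain ⟨P, hP⟩ := Q.exists_comap_subtype_eq
  exact Subtype.ext (h P x (by rw [← hP] at hx; exact hx) y (by rw [← hP] at hy; exact hy))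

theorem IsTwoComplement.subgroupOf {M : Subgroup G} (h : IsTwoComplement M) (P : Sylow 2 G)
    {H : Subgroup G} (hH : (P : Subgroup G) ≤ H) : IsTwoComplement (M.subgroupOf H) := by
  have e : Nat.card (M.subgroupOf H) = Nat.card (H ⊓ M : Subgroup G) := by
    rw [← inf_subgroupOf_right M H, inf_comm]
    exact Nat.card_congr (subgroupOfEquivOfLe inf_le_left).toEquiv
  refine ⟨?_, ?_⟩
  · rw [e]
    exact h.1.of_dvd_nat (card_dvd_of_le inf_le_right)
  · obtain ⟨k, hk⟩ := IsPGroup.iff_card.1 P.isPGroup'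
    refine ⟨k, ?_⟩
    have h1 := (M.subgroupOf H).card_mul_index
    rw [e, ← h.card_inf P hH, mul_comm (Nat.card (P : Subgroup G)), hk] at h1
    exact Nat.eq_of_mul_eq_mul_left Nat.card_pos h1

/-- The inductive setting. -/
structure Setting (M : Subgroup G) : Prop where
  simple : IsSimpleGroup G
  nonabelian : ¬ IsMulCommutative G
  compl : IsTwoComplement M
  abelian : AbelianTwo G
  proper : ∀ (P : Sylow 2 G) (H : Subgroup G), (P : Subgroup G) ≤ H → H ≠ ⊤ → Group.IsSolvable H

variable {M : Subgroup G}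

theorem Setting.sylow_ne_bot (h : Setting M) (P : Sylow 2 G) : (P : Subgroup G) ≠ ⊥ := by
  intro hP
  haveI := h.simple
  have hodd : Odd (Nat.card G) := by
    have := P.not_dvd_index
    rw [hP, index_bot] at this
    exact Nat.not_even_iff_odd.1 fun he => this he.two_dvd
  haveI := S0205.result hodd
  exact h.nonabelian ⟨⟨fun a b => IsSimpleGroup.comm_iff_isSolvable.2 inferInstance a b⟩⟩

theorem Setting.M_ne_top (h : Setting M) : M ≠ ⊤ := by
  intro hM
  obtain ⟨P⟩ : Nonempty (Sylow 2 G) := inferInstance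
  exact h.sylow_ne_bot P ((eq_bot_iff_forall _).2 fun x hx =>
    eq_one_of_mem_two_of_mem_odd P.isPGroup' h.compl.1 hx (hM ▸ mem_top x))

/-- No nontrivial subgroup of odd order is normalized by a Sylow `2`-subgroup. -/
theorem Setting.eq_bot_of_normalized (h : Setting M) (P : Sylow 2 G) {U : Subgroup G}
    (hU : Odd (Nat.card U)) (hPU : (P : Subgroup G) ≤ normalizer (U : Set G)) : U = ⊥ := by
  haveI := h.simple
  set H : Subgroup G := (P : Subgroup G) ⊔ U with hH
  have hcard : Nat.card H = Nat.card (P : Subgroup G) * Nat.card U := by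
    rw [hH, sup_comm, Coprime.card_sup hPU, mul_comm]
    exact (eq_bot_iff_forall _).2 fun x hx =>
      eq_one_of_mem_two_of_mem_odd P.isPGroup' hU hx.2 hx.1
  have hUM : U ≤ M := by
    have hle : H ⊓ M ≤ U := by
      intro x hx
      have hHn : H ≤ normalizer (U : Set G) := sup_le hPU le_normalizer
      haveI : (U.subgroupOf H).Normal := normal_subgroupOf_of_le_normalizer hHn
      have h1 : (QuotientGroup.mk' (U.subgroupOf H)) ⟨x, hx.1⟩ = 1 := by
        set q := (QuotientGroup.mk' (U.subgroupOf H)) ⟨x, hx.1⟩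
        have d1 : orderOf q ∣ orderOf x := by
          show orderOf q ∣ orderOf ((⟨x, hx.1⟩ : H) : G)
          rw [Subgroup.orderOf_coe]
          exact orderOf_map_dvd _ _
        have d2 : orderOf q ∣ Nat.card (P : Subgroup G) := by
          refine (_root_.orderOf_dvd_natCard q).trans (dvd_of_eq ?_)
          have h3 := (U.subgroupOf H).card_mul_index
          rw [Nat.card_congr (subgroupOfEquivOfLe (le_sup_right : U ≤ H)).toEquiv, hcard,
            mul_comm (Nat.card (P : Subgroup G))] at h3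
          exact Nat.eq_of_mul_eq_mul_left Nat.card_pos h3
        obtain ⟨k, hk⟩ := IsPGroup.iff_card.1 P.isPGroup'
        exact orderOf_eq_one_iff.1 (Nat.eq_one_of_dvd_coprimes
          (Nat.Coprime.pow_left k (Nat.coprime_two_left.2 (odd_orderOf_of_mem h.compl.1 hx.2)))
          (hk ▸ d2) d1)
      exact mem_subgroupOf.1 ((QuotientGroup.eq_one_iff _).1 h1)
    have h2 := h.compl.card_inf P (le_sup_left : (P : Subgroup G) ≤ H)
    rw [hcard] at h2
    have := eq_of_le_of_card_ge hle (Nat.eq_of_mul_eq_mul_left Nat.card_pos h2).ge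
    exact this.ge.trans inf_le_right
  by_contra hne
  obtain ⟨K, hK⟩ : ∃ K, K = normalClosure (U : Set G) := ⟨_, rfl⟩
  have hKM : K ≤ M := by
    rw [hK, Subgroup.normalClosure, closure_le]
    intro z hz
    obtain ⟨u, hu, hc⟩ := Group.mem_conjugatesOfSet_iff.1 hz
    obtain ⟨g, rfl⟩ := isConj_iff.1 hc
    obtain ⟨m, hm, s, hs, rfl⟩ := h.compl.exists_mul' P g
    have := (mem_normalizer_iff.1 (hPU hs) u).1 hu
    rw [show m * s * u * (m * s)⁻¹ = m * (s * u * s⁻¹) * m⁻¹ by group]
    exact M.mul_mem (M.mul_mem hm (hUM this)) (M.inv_mem hm)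
  rcases (hK ▸ normalClosure_normal : K.Normal).eq_bot_or_eq_top with e | e
  · exact hne (eq_bot_iff.2 ((subset_normalClosure (s := (U : Set G))).trans (hK ▸ e.le)))
  · exact h.M_ne_top (top_le_iff.1 (e ▸ hKM))

/-- A proper overgroup of a Sylow `2`-subgroup normalizes it. -/
theorem Setting.le_normalizer_of_le (h : Setting M) (P : Sylow 2 G) {H : Subgroup G}
    (hPH : (P : Subgroup G) ≤ H) (hH : H ≠ ⊤) : H ≤ normalizer ((P : Subgroup G) : Set G) := by
  haveI := h.proper P H hPH hH
  have hO : Cfsg.pPrimeCore 2 H = ⊥ := by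
    have hU := h.eq_bot_of_normalized P (U := (Cfsg.pPrimeCore 2 H).map H.subtype) ?_ ?_
    · rwa [map_eq_bot_iff_of_injective _ H.subtype_injective] at hU
    · rw [card_map_of_injective H.subtype_injective]
      exact Nat.coprime_two_right.1 Cores.coprime_card_pPrimeCore
    · refine hPH.trans ?_
      intro x hx
      rw [mem_normalizer_iff]
      intro u
      constructor
      · rintro ⟨v, hv, rfl⟩
        exact ⟨_, (inferInstance : (Cfsg.pPrimeCore 2 H).Normal).conj_mem v hv ⟨x, hx⟩, rfl⟩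
      · rintro ⟨v, hv, e⟩
        refine ⟨_, (inferInstance : (Cfsg.pPrimeCore 2 H).Normal).conj_mem v hv ⟨x, hx⟩⁻¹, ?_⟩
        have e' : (v : G) = x * u * x⁻¹ := e
        simp [e', mul_assoc]
  set P' : Subgroup H := (P : Subgroup G).subgroupOf H with hP'
  have hle : Cfsg.pCore 2 H ≤ P' := by
    have := Cores.pCore_le_sylow (p := 2) (P.subtype hPH)
    exact this
  have hc := Cores.centralizer_pCore_le
    (Cores.isPSolvable_of_isSolvable (G := H) (p := 2)) hO
  have he : Cfsg.pCore 2 H = P' := le_antisymm hle (fun x hx => hc (mem_centralizer_iff.2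
    fun y hy => Subtype.ext (h.abelian P _ (hle hy) _ hx)))
  haveI : P'.Normal := he ▸ inferInstance
  exact (normal_subgroupOf_iff_le_normalizer hPH).1 this

/-- The Sylow `2`-subgroup containing an element `v ≠ 1` contains its centralizer's `2`-elements. -/
theorem Setting.centralizer_le (h : Setting M) (P : Sylow 2 G) {v : G}
    (hv : v ∈ (P : Subgroup G)) (hv1 : v ≠ 1) :
    centralizer ({v} : Set G) ≤ normalizer ((P : Subgroup G) : Set G) := by
  refine h.le_normalizer_of_le P (fun x hx => ?_) fun e => hv1 ?_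
  · exact mem_centralizer_singleton_iff.2 (h.abelian P x hx v hv)
  · haveI := h.simple
    have : v ∈ center G := mem_center_iff.2 fun g =>
      mem_centralizer_singleton_iff.1 (e ▸ mem_top g)
    rwa [H36.center_eq_bot_of_simple h.nonabelian, mem_bot] at this

theorem Setting.mem_of_commute (h : Setting M) (P : Sylow 2 G) {v x : G}
    (hv : v ∈ (P : Subgroup G)) (hv1 : v ≠ 1) (hc : x * v = v * x)
    (hx : IsPGroup 2 (zpowers x)) : x ∈ (P : Subgroup G) :=
  ((hx.inf_normalizer_sylow P).le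
    ⟨mem_zpowers x, h.centralizer_le P hv hv1 (mem_centralizer_singleton_iff.2 hc)⟩).2

theorem isPGroup_zpowers_of_mem (P : Sylow 2 G) {x : G} (hx : x ∈ (P : Subgroup G)) :
    IsPGroup 2 (zpowers x) := P.isPGroup'.to_le (zpowers_le.2 hx)

/-- Distinct Sylow `2`-subgroups meet trivially. -/
theorem Setting.sylow_eq (h : Setting M) {P Q : Sylow 2 G} {v : G} (hv : v ∈ (P : Subgroup G))
    (hv' : v ∈ (Q : Subgroup G)) (hv1 : v ≠ 1) : P = Q := by
  refine Sylow.ext ?_
  exact (Q.is_maximal' P.isPGroup' fun x hx =>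
    h.mem_of_commute P hv hv1 (h.abelian Q x hx v hv') (isPGroup_zpowers_of_mem Q hx))

theorem exists_sylow_mem {x : G} (hx : orderOf x = 2) : ∃ P : Sylow 2 G, x ∈ (P : Subgroup G) := by
  have : IsPGroup 2 (zpowers x) := IsPGroup.of_card (n := 1) (by rw [Nat.card_zpowers, hx, pow_one])
  obtain ⟨P, hP⟩ := this.exists_le_sylow
  exact ⟨P, hP (mem_zpowers x)⟩

/-- There is one class of involutions. -/
theorem Setting.isConj_of_distinct (h : Setting M) {P Q : Sylow 2 G} (hPQ : P ≠ Q) {x y : G}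
    (hx : x ∈ (P : Subgroup G)) (hy : y ∈ (Q : Subgroup G)) (hox : orderOf x = 2)
    (hoy : orderOf y = 2) : IsConj x y := by
  rcases Nat.even_or_odd (orderOf (x * y)) with ⟨j, hj⟩ | ho
  · exfalso
    have hj0 : 0 < j := by have := orderOf_pos (x * y); omega
    set z := (x * y) ^ j with hz
    have hzo : orderOf z = 2 := by
      rw [hz, orderOf_pow, hj, Nat.gcd_eq_right ⟨2, by omega⟩,
        show (j + j) / j = 2 by rw [← two_mul]; exact Nat.mul_div_cancel 2 hj0]
    have hz1 : z ≠ 1 := fun e => by rw [e, orderOf_one] at hzo; exact absurd hzo (by decide)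
    have hxx : x * x = 1 := by rw [← sq, ← hox, pow_orderOf_eq_one]
    have hyy : y * y = 1 := by rw [← sq, ← hoy, pow_orderOf_eq_one]
    have hzz : z⁻¹ = z := inv_eq_of_mul_eq_one_right (by rw [← sq, ← hzo, pow_orderOf_eq_one])
    have hxc : x * z = z * x := by
      have hcj : SemiconjBy x (x * y) (x * y)⁻¹ := by
        show x * (x * y) = (x * y)⁻¹ * x
        rw [mul_inv_rev, inv_eq_of_mul_eq_one_right hxx, inv_eq_of_mul_eq_one_right hyy,
          ← mul_assoc, hxx, one_mul, mul_assoc, hxx, mul_one]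
      have := (hcj.pow_right j).eq
      rwa [inv_pow, ← hz, hzz] at this
    have hyc : y * z = z * y := by
      have hw : (x * y) * z = z * (x * y) := (Commute.self_pow (x * y) j).eq
      calc y * z = x * (x * y * z) := by rw [← mul_assoc, ← mul_assoc, hxx, one_mul]
        _ = x * z * x * y := by rw [hw]; simp [mul_assoc]
        _ = z * y := by rw [hxc, mul_assoc z x x, hxx, mul_one]
    obtain ⟨R, hR⟩ := exists_sylow_mem hzo
    refine hPQ ((h.sylow_eq hx (h.mem_of_commute R hR hz1 hxc ?_) ?_).trans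
      (h.sylow_eq hy (h.mem_of_commute R hR hz1 hyc ?_) ?_).symm)
    · exact isPGroup_zpowers_of_mem P hx
    · intro e; rw [e, orderOf_one] at hox; exact absurd hox (by decide)
    · exact isPGroup_zpowers_of_mem Q hy
    · intro e; rw [e, orderOf_one] at hoy; exact absurd hoy (by decide)
  · obtain ⟨d, -, hd⟩ := S0208.result x y hox hoy ho
    exact isConj_iff.2 ⟨d, hd⟩

theorem Setting.normalizer_ne_top (h : Setting M) (P : Sylow 2 G) :
    normalizer ((P : Subgroup G) : Set G) ≠ ⊤ := by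
  intro e
  haveI := h.simple
  haveI : (P : Subgroup G).Normal := normalizer_eq_top_iff.1 e
  rcases (inferInstance : (P : Subgroup G).Normal).eq_bot_or_eq_top with e' | e'
  · exact h.sylow_ne_bot P e'
  · exact h.nonabelian ⟨⟨fun a b => h.abelian P a (e' ▸ mem_top a) b (e' ▸ mem_top b)⟩⟩

theorem Setting.exists_ne_sylow (h : Setting M) (P : Sylow 2 G) : ∃ Q : Sylow 2 G, Q ≠ P := by
  by_contra! hall
  refine h.normalizer_ne_top P ((eq_top_iff' _).2 fun g => ?_)
  exact Sylow.smul_eq_iff_mem_normalizer.1 (hall (g • P))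

theorem Setting.isConj (h : Setting M) {x y : G} (hox : orderOf x = 2) (hoy : orderOf y = 2) :
    IsConj x y := by
  obtain ⟨P, hP⟩ := exists_sylow_mem hox
  obtain ⟨Q, hQ⟩ := exists_sylow_mem hoy
  by_cases hPQ : P = Q
  · subst hPQ
    obtain ⟨R, hR⟩ := h.exists_ne_sylow P
    obtain ⟨g, rfl⟩ := MulAction.exists_smul_eq G P R
    have hz : g * x * g⁻¹ ∈ ((g • P : Sylow 2 G) : Subgroup G) := by
      refine Subgroup.mem_map.2 ⟨x, hP, ?_⟩
      rfl
    have ho : orderOf (g * x * g⁻¹) = 2 := by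
      rw [← hox]
      exact (orderOf_injective (MulAut.conj g).toMonoidHom (MulEquiv.injective _) x)
    exact (h.isConj_of_distinct hR.symm hP hz hox ho).trans
      (h.isConj_of_distinct hR hz hQ ho hoy)
  · exact h.isConj_of_distinct hPQ hP hQ hox hoy

theorem Setting.centralizer_sylow_le (h : Setting M) (P : Sylow 2 G) :
    M ⊓ centralizer ((P : Subgroup G) : Set G) = ⊥ := by
  refine h.eq_bot_of_normalized P (h.compl.1.of_dvd_nat (card_dvd_of_le inf_le_left)) ?_
  intro x hx
  refine centralizer_le_normalizer _ (mem_centralizer_iff.2 fun u hu => ?_)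
  exact ((mem_centralizer_iff.1 hu.2) x hx).symm

end Cfsg.Agent.H26.OddComplement
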