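import Cfsg.Agent.H26.OddComplement.Contra
import Cfsg.Agent.H79.Kazarin
import Cfsg.Agent.Coprime.Action

/-!
A finite group with abelian Sylow `2`-subgroups and a subgroup of odd order and `2`-power index
is solvable.
-/

set_option autoImplicit false

namespace Cfsg.Agent.H26.OddComplement

open Subgroup

universe u

theorem isSolvable {G : Type u} [Group G] [Finite G] (hA : AbelianTwo G) {M : Subgroup G}
    (hM : IsTwoComplement M) : Group.IsSolvable G := by
  induction hsize : Nat.card G using Nat.strong_induction_on generalizing G with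
  | _ N ih =>
    by_cases hsimp : ∀ K : Subgroup G, K.Normal → K = ⊥ ∨ K = ⊤
    · rcases subsingleton_or_nontrivial G with h | h
      · infer_instance
      haveI : IsSimpleGroup G := ⟨hsimp⟩
      by_cases hna : IsMulCommutative G
      · exact Coprime.isSolvable_of_isMulCommutative
      refine (Setting.false (M := M) ⟨inferInstance, hna, hM, hA, fun P H hPH hH => ?_⟩).elim
      refine ih (Nat.card H) ?_ (hA.subgroup H) (hM.subgroupOf P hPH) rfl
      rw [← hsize]
      exact lt_of_le_of_ne (card_le_card_group H) fun e => hH ((card_eq_iff_eq_top H).mp e)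
    · push Not at hsimp
      obtain ⟨K, hK, hKb, hKt⟩ := hsimp
      haveI := hK
      obtain ⟨hodd, k, hk⟩ := hM
      have hMK : IsTwoComplement (M.subgroupOf K) := by
        refine ⟨?_, ?_⟩
        · rw [← card_map_of_injective (K := M.subgroupOf K) K.subtype_injective,
            subgroupOf_map_subtype]
          exact hodd.of_dvd_nat (card_dvd_of_le inf_le_left)
        · have hd : M.relIndex K ∣ M.index := Cfsg.Agent.H79.Kazarin.relIndex_dvd_index M K
          obtain ⟨i, -, hi⟩ := (Nat.dvd_prime_pow Nat.prime_two).1 (hk ▸ hd)
          exact ⟨i, hi⟩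
      haveI : Group.IsSolvable K := ih (Nat.card K)
        (hsize ▸ lt_of_le_of_ne (card_le_card_group K) fun e => hKt ((card_eq_iff_eq_top K).mp e))
        (hA.subgroup K) hMK rfl
      have hs : Function.Surjective (QuotientGroup.mk' K) := QuotientGroup.mk'_surjective K
      haveI : Group.IsSolvable (G ⧸ K) := ih (Nat.card (G ⧸ K))
        (by
          rw [← hsize, K.card_eq_card_quotient_mul_card_subgroup]
          exact lt_mul_of_one_lt_right Nat.card_pos (K.one_lt_card_iff_ne_bot.mpr hKb))
        (hA.map _ hs) (IsTwoComplement.map ⟨hodd, k, hk⟩ _ hs) rfl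
      exact Group.isSolvable_of_ker_le_range K.subtype (QuotientGroup.mk' K) (by simp)

end Cfsg.Agent.H26.OddComplement
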