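import Cfsg.Agent.H26.OddComplement.Main
import Cfsg.Agent.H75.Cover
import Cfsg.Agent.S0089

/-!
A group with abelian Sylow subgroups and a class of size the largest `2`-part of a class size is
solvable.
-/

set_option autoImplicit false

namespace Cfsg.Agent.H26.OddComplement

open Subgroup

universe u

variable {G : Type u} [Group G] [Finite G]

/-- A subgroup is the product of a Sylow subgroup and a subgroup with a suitable index. -/
theorem exists_mul_of_index (C : Subgroup G) {a : ℕ} (hx : C.index = 2 ^ a)
    (T : Sylow 2 C) :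
    ∃ S : Sylow 2 G, (T : Subgroup C).map C.subtype ≤ S ∧
      ∀ g : G, ∃ s ∈ (S : Subgroup G), ∃ c ∈ C, g = s * c := by
  set T' : Subgroup G := (T : Subgroup C).map C.subtype with hT'
  obtain ⟨S, hS⟩ := (T.isPGroup'.map C.subtype).exists_le_sylow
  refine ⟨S, hS, fun g => ?_⟩
  have hSC : Nat.card ((S : Subgroup G) ⊓ C : Subgroup G) = Nat.card T' := by
    refine le_antisymm ?_ (Nat.card_le_card_of_injective _
      (inclusion_injective (le_inf hS (map_subtype_le _))))
    rw [hT', card_map_of_injective C.subtype_injective]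
    obtain ⟨T₂, hT₂⟩ := (S.isPGroup'.to_le (inf_le_left : (S : Subgroup G) ⊓ C ≤ S)).comap_subtype
      (K := C) |>.exists_le_sylow
    calc Nat.card ((S : Subgroup G) ⊓ C : Subgroup G)
        = Nat.card (((S : Subgroup G) ⊓ C).subgroupOf C) :=
          (Nat.card_congr (subgroupOfEquivOfLe inf_le_right).toEquiv).symm
      _ ≤ Nat.card (T₂ : Subgroup C) :=
          Nat.card_le_card_of_injective _ (inclusion_injective hT₂)
      _ = Nat.card (T : Subgroup C) := by rw [T₂.card_eq_multiplicity, T.card_eq_multiplicity]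
  -- `S` meets every coset of `C`
  have hrel : C.relIndex (S : Subgroup G) = C.index := by
    have h1 : Nat.card T' * C.relIndex (S : Subgroup G) = Nat.card (S : Subgroup G) := by
      rw [← hSC, inf_comm, ← inf_relIndex_right C (S : Subgroup G), ← relIndex_bot_left,
        ← relIndex_bot_left, relIndex_mul_relIndex _ _ _ bot_le inf_le_right]
    have h2 : Nat.card (S : Subgroup G) = Nat.card T' * 2 ^ a := by
      rw [hT', card_map_of_injective C.subtype_injective, S.card_eq_multiplicity,
        T.card_eq_multiplicity, ← C.card_mul_index, hx,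
        Nat.factorization_mul Nat.card_pos.ne' (by positivity), Finsupp.add_apply,
        Nat.prime_two.factorization_pow, Finsupp.single_eq_same, pow_add]
    rw [h2] at h1
    rw [hx]
    exact Nat.eq_of_mul_eq_mul_left Nat.card_pos h1
  have hbij : Function.Bijective
      (quotientSubgroupOfEmbeddingOfLE C (le_top : (S : Subgroup G) ≤ ⊤)) := by
    rw [Nat.bijective_iff_injective_and_card]
    refine ⟨Function.Embedding.injective _, ?_⟩
    show C.relIndex (S : Subgroup G) = C.relIndex ⊤
    rw [hrel, relIndex_top_right]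
  obtain ⟨q, hq⟩ := hbij.2 (QuotientGroup.mk (⟨g, mem_top g⟩ : (⊤ : Subgroup G)))
  obtain ⟨⟨s, hs⟩, rfl⟩ := QuotientGroup.mk_surjective q
  refine ⟨s, hs, s⁻¹ * g, ?_, by rw [mul_inv_cancel_left]⟩
  have := QuotientGroup.eq.1 hq
  rw [mem_subgroupOf] at this
  exact this

/-- The theorem. -/
theorem isSolvable_of_max_two_index
    (hA : ∀ (p : ℕ) [Fact p.Prime] (P : Sylow p G), IsMulCommutative (P : Subgroup G))
    (a : ℕ) (hmax : ∀ y : G, ¬ 2 ^ (a + 1) ∣ (centralizer ({y} : Set G)).index)
    {x : G} (hx : (centralizer ({x} : Set G)).index = 2 ^ a) : Group.IsSolvable G := by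
  classical
  have hA2 : AbelianTwo G := fun P u hu v hv =>
    congrArg Subtype.val ((hA 2 P).is_comm.comm ⟨u, hu⟩ ⟨v, hv⟩)
  set C := centralizer ({x} : Set G) with hC
  set L : Subgroup G := normalClosure {x} with hL
  set N : Subgroup G := centralizer (L : Set G) with hN
  haveI : N.Normal := normal_centralizer
  have hxL : x ∈ L := subset_normalClosure (Set.mem_singleton x)
  have hNC : N ≤ C := centralizer_le (Set.singleton_subset_iff.2 hxL)
  -- Sylow `2`-subgroups of `C` lie in `N`
  have hTN : ∀ T : Sylow 2 C, (T : Subgroup C).map C.subtype ≤ N := by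
    intro T t ht
    obtain ⟨S, hS, hprod⟩ := exists_mul_of_index C hx T
    refine mem_centralizer_iff.2 fun l hl => ?_
    -- the elements commuting with `t` include `L`
    have hconj : ∀ g : G, g⁻¹ * t * g ∈ C := by
      intro g
      obtain ⟨s, hs, c, hc, rfl⟩ := hprod g
      rw [show (s * c)⁻¹ * t * (s * c) = c⁻¹ * (s⁻¹ * (t * s)) * c by group,
        hA2 S t (hS ht) s hs, inv_mul_cancel_left]
      exact C.mul_mem (C.mul_mem (C.inv_mem hc) (map_subtype_le _ ht)) hc
    have hle : L ≤ centralizer ({t} : Set G) := by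
      rw [hL, Subgroup.normalClosure, closure_le]
      intro z hz
      obtain ⟨w, hw, hzc⟩ := Group.mem_conjugatesOfSet_iff.1 hz
      rw [Set.mem_singleton_iff] at hw
      subst hw
      obtain ⟨g, rfl⟩ := isConj_iff.1 hzc
      refine mem_centralizer_singleton_iff.2 ?_
      have h1 := mem_centralizer_singleton_iff.1 (hconj g)
      calc g * w * g⁻¹ * t = g * (w * (g⁻¹ * t * g)) * g⁻¹ := by group
        _ = g * (g⁻¹ * t * g * w) * g⁻¹ := by rw [h1]
        _ = t * (g * w * g⁻¹) := by group
    exact mem_centralizer_singleton_iff.1 (hle hl)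
  -- a perfect subgroup of `N` normal in `G` is trivial
  have hperf : ∀ E : Subgroup G, E ≤ N → E.Normal → ⁅E, E⁆ = E → E = ⊥ := by
    intro E hEN hEn hEE
    haveI := hEn
    have hcom : commutator E = ⊤ := by
      apply map_injective E.subtype_injective
      rw [map_subtype_commutator, hEE, ← MonoidHom.range_eq_map, range_subtype]
    have hAE : ∀ (p : ℕ) [Fact p.Prime] (P : Sylow p E), IsMulCommutative (P : Subgroup E) := by
      intro p _ P
      obtain ⟨P₀, hP₀⟩ := P.exists_comap_subtype_eq
      refine ⟨⟨fun u v => Subtype.ext (Subtype.ext ?_)⟩⟩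
      have hu : ((u : E) : G) ∈ (P₀ : Subgroup G) := hP₀.ge u.2
      have hv : ((v : E) : G) ∈ (P₀ : Subgroup G) := hP₀.ge v.2
      show ((u : E) : G) * ((v : E) : G) = ((v : E) : G) * ((u : E) : G)
      exact congrArg Subtype.val ((hA p P₀).is_comm.comm ⟨_, hu⟩ ⟨_, hv⟩)
    have hcen : center E = ⊥ := by
      have := S0089.result (G := E) fun p hp P => by
        haveI := Fact.mk hp
        exact hAE p P
      rwa [hcom, top_inf_eq] at this
    obtain ⟨TE⟩ : Nonempty (Sylow 2 E) := inferInstance
    have hcov : ∀ y : E, ∃ b : E, b * y * b⁻¹ ∈ centralizer ((TE : Subgroup E) : Set E) := by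
      intro y
      set Cy := centralizer ({x * (y : G)} : Set G) with hCy
      -- `C(xy) ≤ C(x) ⊓ C(y)`
      have hCy2 : Cy ≤ C ⊓ centralizer ({(y : G)} : Set G) := by
        intro s hs
        have hs' := mem_centralizer_singleton_iff.1 hs
        have hyx : (y : G) * x = x * (y : G) := ((mem_centralizer_iff.1 (hEN y.2)) x hxL).symm
        set z : G := x⁻¹ * (s * x * s⁻¹) with hz
        have hzL : z ∈ L := L.mul_mem (L.inv_mem hxL)
          ((normalClosure_normal : L.Normal).conj_mem x hxL s)
        have hzE : z ∈ E := by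
          have : z = (y : G) * (s * (y : G) * s⁻¹)⁻¹ := by
            have h1 : s * x * s⁻¹ * (s * (y : G) * s⁻¹) = x * (y : G) := by
              rw [show s * x * s⁻¹ * (s * (y : G) * s⁻¹) = s * (x * (y : G)) * s⁻¹ by group, hs',
                mul_inv_cancel_right]
            rw [hz, eq_mul_inv_iff_mul_eq, mul_assoc, h1, inv_mul_cancel_left]
          rw [this]
          exact E.mul_mem y.2 (E.inv_mem (hEn.conj_mem _ y.2 s))
        have hz1 : z = 1 := by
          have : (⟨z, hzE⟩ : E) ∈ center E := mem_center_iff.2 fun e => Subtype.ext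
            ((mem_centralizer_iff.1 (hEN e.2) z hzL).symm)
          rw [hcen, mem_bot] at this
          exact congrArg Subtype.val this
        have hsx : s * x = x * s := by
          rw [hz, inv_mul_eq_one] at hz1
          exact (eq_mul_inv_iff_mul_eq.1 hz1).symm
        refine ⟨mem_centralizer_singleton_iff.2 hsx, mem_centralizer_singleton_iff.2 ?_⟩
        have h2 : x * (s * (y : G)) = x * ((y : G) * s) := by
          rw [← mul_assoc, ← hsx, mul_assoc, hs', mul_assoc]
        exact mul_left_cancel h2
      obtain ⟨R⟩ : Nonempty (Sylow 2 Cy) := inferInstance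
      set R' : Subgroup G := (R : Subgroup Cy).map Cy.subtype with hR'
      have hR'C : R' ≤ C := (map_subtype_le _).trans (hCy2.trans inf_le_left)
      obtain ⟨T₁, hT₁⟩ := ((R.isPGroup'.map Cy.subtype).comap_subtype (K := C)).exists_le_sylow
      have hcardR : Nat.card (T₁ : Subgroup C) ≤ Nat.card R' := by
        rw [hR', card_map_of_injective Cy.subtype_injective, R.card_eq_multiplicity,
          T₁.card_eq_multiplicity]
        refine Nat.pow_le_pow_right (by norm_num) ?_
        have e1 := congrArg (fun n : ℕ => n.factorization 2) C.card_mul_index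
        have e2 := congrArg (fun n : ℕ => n.factorization 2) Cy.card_mul_index
        simp only [hx, Nat.factorization_mul Nat.card_pos.ne' (pow_ne_zero a two_ne_zero),
          Nat.factorization_mul Nat.card_pos.ne' (index_ne_zero_of_finite (H := Cy)),
          Finsupp.add_apply, Nat.prime_two.factorization_pow, Finsupp.single_eq_same] at e1 e2
        have h3 : Cy.index.factorization 2 ≤ a := by
          by_contra! h4
          exact hmax (x * y) ((Nat.prime_two.pow_dvd_iff_le_factorization index_ne_zero_of_finite).2 h4)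
        omega
      have heq : R' = (T₁ : Subgroup C).map C.subtype := by
        refine eq_of_le_of_card_ge (fun r hr => ⟨⟨r, hR'C hr⟩, hT₁ hr, rfl⟩) ?_
        rw [card_map_of_injective C.subtype_injective]
        exact hcardR
      -- its trace on `E` is a Sylow subgroup of `E` centralizing `y`
      have hRy : ∀ r ∈ R', r * (y : G) = (y : G) * r := fun r hr =>
        mem_centralizer_singleton_iff.1 ((hCy2 (map_subtype_le _ hr)).2)
      have hpg : IsPGroup 2 (R'.subgroupOf E) := (R.isPGroup'.map Cy.subtype).comap_subtype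
      obtain ⟨TE', hTE'⟩ := hpg.exists_le_sylow
      have hmax' : (TE' : Subgroup E) ≤ R'.subgroupOf E := by
        set W : Subgroup G := (TE' : Subgroup E).map E.subtype with hW
        have hWE : W ≤ E := map_subtype_le _
        obtain ⟨T₂, hT₂⟩ := ((TE'.isPGroup'.map E.subtype).comap_subtype (K := C)).exists_le_sylow
        obtain ⟨c, hc⟩ := MulAction.exists_smul_eq C T₂ T₁
        refine (eq_of_le_of_card_ge hTE' ?_).ge
        refine Nat.card_le_card_of_injective (fun e => ⟨⟨(c : G) * ((e : E) : G) * (c : G)⁻¹,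
          hEn.conj_mem _ (e : E).2 _⟩, ?_⟩) fun u v huv => ?_
        · rw [mem_subgroupOf, heq]
          have hin : (⟨((e : E) : G), hNC (hEN (e : E).2)⟩ : C) ∈ (T₂ : Subgroup C) :=
            hT₂ ⟨(e : E), e.2, rfl⟩
          refine ⟨c * ⟨((e : E) : G), hNC (hEN (e : E).2)⟩ * c⁻¹, ?_, rfl⟩
          rw [← hc]
          exact Subgroup.mem_map.2 ⟨_, hin, rfl⟩
        · have := congrArg (fun z : R'.subgroupOf E => ((z : E) : G)) huv
          exact Subtype.ext (Subtype.ext (mul_left_cancel (mul_right_cancel this)))
      obtain ⟨b, hb⟩ := MulAction.exists_smul_eq E TE' TE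
      refine ⟨b, mem_centralizer_iff.2 fun v hv => ?_⟩
      rw [← hb] at hv
      obtain ⟨w, hw, rfl⟩ := Subgroup.mem_map.1 hv
      have hwy : (w : G) * (y : G) = (y : G) * (w : G) := hRy _ (hmax' hw)
      apply Subtype.ext
      show (b : G) * (w : G) * (b : G)⁻¹ * ((b : G) * (y : G) * (b : G)⁻¹) =
        (b : G) * (y : G) * (b : G)⁻¹ * ((b : G) * (w : G) * (b : G)⁻¹)
      rw [show (b : G) * (w : G) * (b : G)⁻¹ * ((b : G) * (y : G) * (b : G)⁻¹) =
        (b : G) * ((w : G) * (y : G)) * (b : G)⁻¹ by group, hwy]
      group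
    have htop := H75.eq_top_of_conj_cover _ hcov
    rw [centralizer_eq_top_iff_subset, hcen] at htop
    have hTE0 : (TE : Subgroup E) = ⊥ := le_bot_iff.1 fun v hv => htop hv
    have hodd : Odd (Nat.card E) := by
      have := TE.not_dvd_index
      rw [hTE0, index_bot] at this
      exact Nat.not_even_iff_odd.1 fun he => this he.two_dvd
    haveI := S0205.result hodd
    by_contra hne
    haveI : Nontrivial E := (Subgroup.nontrivial_iff_ne_bot E).2 hne
    exact (Group.IsSolvable.commutator_lt_top_of_nontrivial E).ne hcom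
  haveI : Group.IsSolvable N := by
    obtain ⟨W, ⟨n, rfl⟩, hmin⟩ := Set.exists_min_image (Set.range fun n => (derivedSeries N n).map N.subtype)
      (fun K => Nat.card K) (Set.toFinite _) ⟨_, 0, rfl⟩
    refine ⟨⟨n, ?_⟩⟩
    have hbot := hperf ((derivedSeries N n).map N.subtype) (map_subtype_le _)
      (ConjAct.normal_of_characteristic_of_normal (H := N) (K := derivedSeries N n)) (by
        rw [← map_commutator, ← derivedSeries_succ]
        refine eq_of_le_of_card_ge (map_mono (derivedSeries_antitone N n.le_succ)) ?_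
        exact hmin _ ⟨n + 1, rfl⟩)
    rwa [map_eq_bot_iff_of_injective _ N.subtype_injective] at hbot
  -- the quotient has a `2`-complement
  have hs : Function.Surjective (QuotientGroup.mk' N) := QuotientGroup.mk'_surjective N
  haveI : Group.IsSolvable (G ⧸ N) := by
    refine isSolvable (hA2.map _ hs) (M := C.map (QuotientGroup.mk' N)) ⟨?_, ?_⟩
    · obtain ⟨T⟩ : Nonempty (Sylow 2 C) := inferInstance
      set ψ := (QuotientGroup.mk' N).comp C.subtype with hψ
      have hr : C.map (QuotientGroup.mk' N) = ψ.range := by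
        rw [hψ, MonoidHom.range_comp, range_subtype]
      have hle : (T : Subgroup C) ≤ ψ.ker := fun t ht => by
        rw [MonoidHom.mem_ker, hψ, MonoidHom.comp_apply]
        exact (QuotientGroup.eq_one_iff _).2 (hTN T ⟨t, ht, rfl⟩)
      rw [hr, ← index_ker]
      exact Nat.not_even_iff_odd.1 fun he => T.not_dvd_index (he.two_dvd.trans (index_dvd_of_le hle))
    · obtain ⟨i, -, hi⟩ := (Nat.dvd_prime_pow Nat.prime_two).1 (hx ▸ C.index_map_dvd hs)
      exact ⟨i, hi⟩
  exact Group.isSolvable_of_ker_le_range N.subtype (QuotientGroup.mk' N) (by simp)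

end Cfsg.Agent.H26.OddComplement
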